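import Groth.Agent.GrpDim.UnivOpen
import Groth.Agent.GrpDim.Construct
import Groth.Agent.GrpDim.FibreDiv
import Groth.Agent.S5334
import Groth.Agent.S5326
import Groth.Agent.S5327
import Groth.Agent.S15351
import Groth.Agent.SubGen.SpreadBase
import Groth.Agent.GrpLoc.LftField
import Groth.Agent.FppfSource.Scheme

/-!
# The neutral component of a group scheme smooth along the unit section
-/

universe u

open CategoryTheory CategoryTheory.Limits MonoidalCategory CartesianMonoidalCategory MonObj GrpObj AlgebraicGeometry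

set_option backward.isDefEq.respectTransparency false
set_option linter.style.haveILetI false

namespace Groth.Agent.SmNeutral

open Groth.Agent.GrpDim

variable {S : Scheme.{u}}

/-- the inclusion of an open subscheme as a morphism over the base -/
noncomputable def openSub (G : Over S) (W : G.left.Opens) : Over.mk (W.ι ≫ G.hom) ⟶ G := Over.homMk W.ι rfl

theorem mono_openSub (G : Over S) (W : G.left.Opens) : Mono (openSub G W) :=
  haveI : Mono (openSub G W).left := inferInstanceAs (Mono W.ι)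
  (Over.forget S).mono_of_mono_map (inferInstanceAs (Mono W.ι))

theorem exists_lift_openSub {G : Over S} {W : G.left.Opens} {T : Over S} (g : T ⟶ G)
    (h : Set.range g.left.base ⊆ (W : Set G.left)) : ∃ z : T ⟶ Over.mk (W.ι ≫ G.hom), z ≫ openSub G W = g := by
  have hr : Set.range g.left ⊆ Set.range W.ι := by rw [W.range_ι]; exact h
  have hfac := IsOpenImmersion.lift_fac W.ι g.left hr
  refine ⟨Over.homMk (IsOpenImmersion.lift W.ι g.left hr) ?_, Over.OverMorphism.ext hfac⟩
  show IsOpenImmersion.lift W.ι g.left hr ≫ W.ι ≫ G.hom = T.hom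
  rw [reassoc_of% hfac, Over.w]

/-- an open set containing the unit section and stable under division is an open subgroup -/
theorem exists_grpObj_openSub (G : Over S) [GrpObj G] (W : G.left.Opens)
    (he : ∀ p : ↥(𝟙_ (Over S)).left, η[G].left p ∈ W)
    (hdiv : Set.range ((fst (Over.mk (W.ι ≫ G.hom)) (Over.mk (W.ι ≫ G.hom)) ≫ openSub G W)⁻¹ *
      (snd (Over.mk (W.ι ≫ G.hom)) (Over.mk (W.ι ≫ G.hom)) ≫ openSub G W)).left.base ⊆ (W : Set G.left)) :
    ∃ _ : GrpObj (Over.mk (W.ι ≫ G.hom)), IsMonHom (openSub G W) := by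
  haveI := mono_openSub G W
  exact SubGen.Spread.exists_grpObj_of_div (openSub G W)
    (exists_lift_openSub η[G] (by rintro _ ⟨p, rfl⟩; exact he p)) (exists_lift_openSub _ hdiv)

/-- a smooth morphism is universally open at every point -/
theorem isUnivOpenAt {X Y : Scheme.{u}} (f : X ⟶ Y) [UniversallyOpen f] (x : X) : EGA43.IsUnivOpenAt f x := by
  intro Y' g x' _
  haveI : UniversallyOpen (pullback.snd f g) := MorphismProperty.pullback_snd _ _ ‹_›
  exact fun U hU => (pullback.snd f g).isOpenMap.image_mem_nhds hU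

/-- the fibre dimension of a smooth group scheme is locally constant -/
theorem isLocallyConstant_dim (H : Over S) [GrpObj H] [Smooth H.hom] :
    IsLocallyConstant (fun s : S => topologicalKrullDim ↥(H.hom.base ⁻¹' {s})) := by
  refine (IsLocallyConstant.iff_eventually_eq _).2 fun s => ?_
  obtain ⟨U, hU, hdim⟩ := dim_eventually_eq H s ⊤ trivial fun x _ _ => isUnivOpenAt H.hom x
  exact Filter.mem_of_superset hU hdim

/-- multiplication as an action -/
noncomputable def selfAction (H : Over S) [GrpObj H] : AlgGrp.Action H H where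
  act := μ[H]
  one_act := MonObj.one_mul H
  mul_act := MonObj.mul_assoc H

/-- the neutral components are open along the locus where a group is smooth near the unit section -/
theorem isOpen_neutralSet (H : Over S) [GrpObj H] [LocallyOfFinitePresentation H.hom]
    (hdim : IsLocallyConstant (fun s : S => topologicalKrullDim ↥(H.hom.base ⁻¹' {s})))
    (W : H.left.Opens) [Smooth (W.ι ≫ H.hom)] (hW : SGA3x.neutralSet H ⊆ W) :
    IsOpen (SGA3x.neutralSet H) := by
  refine isOpen_iff_forall_mem_open.2 fun x hx => ?_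
  let s := H.hom x
  obtain ⟨A, hA, heA, -⟩ := exists_isAffineOpen_mem_and_subset
    (show η[H].left s ∈ (⊤ : H.left.Opens) from trivial)
  haveI : IsAffine (A : Scheme.{u}) := hA
  have hAsep : IsSeparated (A.ι ≫ H.hom) := inferInstance
  obtain ⟨T, hT, hTsep⟩ := S5334.result S H H hdim (selfAction H) A hAsep
  obtain ⟨V, hV, hsV, hVA⟩ := exists_isAffineOpen_mem_and_subset (X := S)
    (U := (η[H].left : S ⟶ H.left) ⁻¹ᵁ A) (x := s) heA
  haveI : IsAffine (V : Scheme.{u}) := hV
  let X' : H.left.Opens := W ⊓ T ⊓ H.hom ⁻¹ᵁ V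
  have hNX : ∀ y ∈ SGA3x.neutralSet H, H.hom y ∈ V → y ∈ X' := by
    intro y hy hyV
    refine ⟨⟨hW hy, ?_⟩, hyV⟩
    rw [hT]
    refine ⟨(lift (𝟙 H) (toUnit H ≫ η[H])).left y, ⟨?_, ?_⟩, ?_⟩
    · have h : (fst H H).left ((lift (𝟙 H) (toUnit H ≫ η[H])).left y) = y := by
        rw [← Scheme.Hom.comp_apply, ← Over.comp_left, lift_fst]; rfl
      show (fst H H).left ((lift (𝟙 H) (toUnit H ≫ η[H])).left y) ∈ SGA3x.neutralSet H
      rw [h]; exact hy
    · have h : (snd H H).left ((lift (𝟙 H) (toUnit H ≫ η[H])).left y) = η[H].left (H.hom y) := by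
        rw [← Scheme.Hom.comp_apply, ← Over.comp_left, lift_snd]; rfl
      show (snd H H).left ((lift (𝟙 H) (toUnit H ≫ η[H])).left y) ∈ A
      rw [h]; exact hVA hyV
    · show μ[H].left ((lift (𝟙 H) (toUnit H ≫ η[H])).left y) = y
      rw [← Scheme.Hom.comp_apply, ← Over.comp_left,
        show lift (𝟙 H) (toUnit H ≫ η[H]) ≫ μ[H] = 𝟙 H * (toUnit H ≫ η[H]) from rfl, ← Hom.one_def,
        _root_.mul_one]
      rfl
  let h : X'.toScheme ⟶ V.toScheme := H.left.homOfLE inf_le_right ≫ H.hom ∣_ V
  have hh : h ≫ V.ι = X'.ι ≫ H.hom := by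
    rw [Category.assoc, morphismRestrict_ι, Scheme.homOfLE_ι_assoc]
  haveI : Smooth h := by
    have h1 : Smooth (X'.ι ≫ H.hom) := by
      rw [← Scheme.homOfLE_ι H.left (show X' ≤ W from inf_le_left.trans inf_le_left), Category.assoc]
      infer_instance
    have : h = IsOpenImmersion.lift V.ι (X'.ι ≫ H.hom) (by
        rw [← hh]; rintro _ ⟨a, rfl⟩; exact ⟨h a, rfl⟩) := by
      rw [← cancel_mono V.ι, IsOpenImmersion.lift_fac, hh]
    have sq : IsPullback h (𝟙 _) V.ι (h ≫ V.ι) := by
      refine IsPullback.of_vert_isIso_mono ⟨by simp⟩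
    exact MorphismProperty.of_isPullback sq.flip (hh ▸ h1)
  haveI : IsSeparated (h ≫ V.ι) := by
    rw [hh, ← Scheme.homOfLE_ι H.left (show X' ≤ T from inf_le_left.trans inf_le_right), Category.assoc]
    infer_instance
  haveI : IsSeparated h := IsSeparated.of_comp h V.ι
  haveI : QuasiSeparatedSpace X'.toScheme := quasiSeparatedSpace_of_quasiSeparated h
  have hsec : ∀ t : V.toScheme, (V.ι ≫ (η[H].left : S ⟶ H.left)) t ∈ X' := fun t => by
    refine hNX _ ?_ ?_
    · rw [neutralSet_iff]
      show η[H].left t.1 ∈ comp0 H (H.hom (η[H].left t.1))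
      rw [hom_section]
      exact mem_connectedComponentIn (hom_section H _)
    · show H.hom (η[H].left t.1) ∈ V
      rw [hom_section]; exact t.2
  have hfac : Set.range (V.ι ≫ (η[H].left : S ⟶ H.left)) ⊆ Set.range X'.ι := by
    rintro _ ⟨t, rfl⟩
    rw [X'.range_ι]
    exact hsec t
  let l : V.toScheme ⟶ X'.toScheme := IsOpenImmersion.lift X'.ι (V.ι ≫ (η[H].left : S ⟶ H.left)) hfac
  have hl : l ≫ X'.ι = V.ι ≫ (η[H].left : S ⟶ H.left) := IsOpenImmersion.lift_fac _ _ _
  have hlh : l ≫ h = 𝟙 _ := by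
    rw [← cancel_mono V.ι, Category.assoc, hh, reassoc_of% hl,
      show (η[H].left : S ⟶ H.left) ≫ H.hom = 𝟙 S from Over.w η[H], Category.id_comp, Category.comp_id]
  have hfib : ∀ a : X'.toScheme, H.hom a.1 = (h a).1 := fun a => by
    show (X'.ι ≫ H.hom) a = (h ≫ V.ι) a
    rw [hh]
  have hle : ∀ b : V.toScheme, (l b).1 = η[H].left b.1 := fun b =>
    congrArg (fun t : V.toScheme ⟶ H.left => t b) hl
  refine ⟨X'.ι '' MoreMor.sectionComponents h l, ?_,
    X'.ι.isOpenEmbedding.isOpenMap _ (S15351.result h l hlh), ?_⟩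
  · rintro _ ⟨a, ha, rfl⟩
    show a.1 ∈ SGA3x.neutralSet H
    rw [neutralSet_iff, hfib]
    have ha' : a ∈ connectedComponentIn (h ⁻¹' {h a}) (l (h a)) := ha
    have hc := (isPreconnected_connectedComponentIn (F := h ⁻¹' {h a}) (x := l (h a))).image _
      X'.ι.continuous.continuousOn
    refine hc.subset_connectedComponentIn ⟨l (h a), mem_connectedComponentIn ?_, hle _⟩ ?_ ⟨a, ha', rfl⟩
    · show h (l (h a)) = h a
      rw [← Scheme.Hom.comp_apply, hlh]; rfl
    · rintro _ ⟨b, hb, rfl⟩
      show H.hom b.1 = _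
      rw [hfib, connectedComponentIn_subset _ _ hb]
  · let a : X'.toScheme := ⟨x, hNX x hx hsV⟩
    refine ⟨a, ?_, rfl⟩
    show a ∈ connectedComponentIn (h ⁻¹' {h a}) (l (h a))
    have hsa : (h a).1 = s := (hfib a).symm
    have him : X'.ι '' (X'.ι ⁻¹' comp0 H s) = comp0 H s := by
      refine Set.image_preimage_eq_of_subset fun y hy => ?_
      rw [X'.range_ι]
      have hys : H.hom y = s := connectedComponentIn_subset (H.hom.base ⁻¹' {s}) _ hy
      exact hNX y ((neutralSet_iff H y).2 (by rw [hys]; exact hy)) (by rw [hys]; exact hsV)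
    have hpre : _root_.IsPreconnected (X'.ι ⁻¹' comp0 H s) := by
      rw [← X'.ι.isEmbedding.isInducing.isPreconnected_image, him]
      exact isPreconnected_connectedComponentIn
    refine hpre.subset_connectedComponentIn ?_ (fun y hy => ?_) ((neutralSet_iff H x).1 hx)
    · show (l (h a)).1 ∈ comp0 H s
      rw [hle, hsa]
      exact mem_connectedComponentIn (hom_section H _)
    · show h y = h a
      refine Subtype.ext ?_
      rw [hsa, ← hfib]
      exact connectedComponentIn_subset (H.hom.base ⁻¹' {s}) _ hy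

/-- the neutral component of a smooth group scheme is an open quasi-compact subgroup -/
theorem exists_neutralComponent (H : Over S) [GrpObj H] [Smooth H.hom] :
    IsOpen (SGA3x.neutralSet H) ∧
    ∃ (G0 : Over S) (_ : GrpObj G0) (i : G0 ⟶ H), IsMonHom i ∧ IsOpenImmersion i.left ∧
      Set.range i.left.base = SGA3x.neutralSet H ∧ Smooth G0.hom ∧ QuasiCompact G0.hom := by
  have hdim := isLocallyConstant_dim H
  haveI : Smooth ((⊤ : H.left.Opens).ι ≫ H.hom) := inferInstance
  have hopen := isOpen_neutralSet H hdim ⊤ (fun _ _ => trivial)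
  let N : H.left.Opens := ⟨SGA3x.neutralSet H, hopen⟩
  refine ⟨hopen, ?_⟩
  let K : Over S := Over.mk (N.ι ≫ H.hom)
  let i : K ⟶ H := openSub H N
  have hmem : ∀ q : ↥K.left, i.left q ∈ SGA3x.neutralSet H := fun q => q.2
  obtain ⟨inst, hi⟩ : ∃ _ : GrpObj K, IsMonHom i := by
    refine exists_grpObj_openSub H N (fun p => ?_) ?_
    · show η[H].left p ∈ SGA3x.neutralSet H
      rw [neutralSet_iff, hom_section]
      exact mem_connectedComponentIn (hom_section H _)
    · rintro _ ⟨q, rfl⟩
      let a := fst K K ≫ i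
      let b := snd K K ≫ i
      let d : K ⊗ K ⟶ H ⊗ H := lift a⁻¹ b
      show (a⁻¹ * b).left q ∈ SGA3x.neutralSet H
      rw [show a⁻¹ * b = d ≫ μ[H] from rfl, Over.comp_left, Scheme.Hom.comp_apply, neutralSet_iff]
      refine mul_mem_comp0 H ?_ ?_
      · have h1 : (fst H H).left (d.left q) = (GrpObj.inv (X := H)).left (a.left q) := by
          rw [← Scheme.Hom.comp_apply, ← Over.comp_left, lift_fst, Hom.inv_def, Over.comp_left,
            Scheme.Hom.comp_apply]
        have h2 : H.hom ((GrpObj.inv (X := H)).left (a.left q)) = H.hom (a.left q) := by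
          rw [← Scheme.Hom.comp_apply, Over.w (GrpObj.inv (X := H))]
        rw [h1, h2]
        exact inv_mem_comp0 H ((neutralSet_iff H _).1 (hmem ((fst K K).left q)))
      · have h1 : (snd H H).left (d.left q) = b.left q := by
          rw [← Scheme.Hom.comp_apply, ← Over.comp_left, lift_snd]
        rw [h1]
        exact (neutralSet_iff H _).1 (hmem ((snd K K).left q))
  haveI : Smooth K.hom := inferInstanceAs (Smooth (N.ι ≫ H.hom))
  haveI : Mono i := mono_openSub H N
  haveI : IsOpenImmersion i.left := inferInstanceAs (IsOpenImmersion N.ι)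
  have hrange : Set.range i.left.base = SGA3x.neutralSet H := N.range_ι
  refine ⟨K, inst, i, hi, inferInstance, hrange, inferInstance, (S5326.result S H K i fun T g => ⟨?_, ?_⟩).2⟩
  · rintro ⟨z, rfl⟩ _ ⟨t, rfl⟩
    rw [← hrange, Over.comp_left, Scheme.Hom.comp_apply]
    exact ⟨_, rfl⟩
  · exact fun h => exists_lift_openSub g h

/-- the fibres of a group scheme smooth near the unit section are locally of finite type -/
theorem lft_fibre (G : Over S) [GrpObj G] (U : G.left.Opens) [Smooth (U.ι ≫ G.hom)]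
    (hU : ∀ p : ↥(𝟙_ (Over S)).left, η[G].left p ∈ U) (s : S) :
    LocallyOfFiniteType (G.hom.fiberToSpecResidueField s) := by
  letI : GrpObj (Over.mk G.hom) := inferInstanceAs (GrpObj G)
  let F : Over (Spec (CommRingCat.of (S.residueField s))) :=
    Over.mk (pullback.snd G.hom (S.fromSpecResidueField s))
  letI : GrpObj F := Over.grpObjMkPullbackSnd
  obtain ⟨q, hq⟩ : η[G].left s ∈ Set.range (G.hom.fiberι s) :=
    (G.hom.range_fiberι s).ge (hom_section G s)
  let W : F.left.Opens := G.hom.fiberι s ⁻¹ᵁ U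
  refine GrpLoc.locallyOfFiniteType_of_restrict F W ⟨q, show G.hom.fiberι s q ∈ U from hq.symm ▸ hU s⟩ ?_
  haveI : LocallyOfFiniteType (U.ι ≫ G.hom) := inferInstance
  exact MorphismProperty.of_isPullback
    ((isPullback_morphismRestrict (G.hom.fiberι s) U).paste_vert
      (IsPullback.of_hasPullback G.hom (S.fromSpecResidueField s))) ‹_›

/-- the largest open subscheme smooth over the base -/
noncomputable def smoothOpen (G : Over S) : G.left.Opens :=
  ⨆ W : {W : G.left.Opens // Smooth (W.ι ≫ G.hom)}, W.1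

theorem smooth_smoothOpen (G : Over S) : Smooth ((smoothOpen G).ι ≫ G.hom) := by
  let V : {W : G.left.Opens // Smooth (W.ι ≫ G.hom)} → (smoothOpen G).toScheme.Opens :=
    fun W => (smoothOpen G).ι ⁻¹ᵁ W.1
  refine IsZariskiLocalAtSource.of_iSup_eq_top V ?_ fun W => ?_
  · refine top_unique fun x _ => ?_
    obtain ⟨W, hW⟩ := TopologicalSpace.Opens.mem_iSup.1 (show x.1 ∈ smoothOpen G from x.2)
    exact TopologicalSpace.Opens.mem_iSup.2 ⟨W, hW⟩
  · have hle : W.1 ≤ smoothOpen G := le_iSup (fun W : {W : G.left.Opens // Smooth (W.ι ≫ G.hom)} => W.1) W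
    have hr : Set.range ((V W).ι ≫ (smoothOpen G).ι) ⊆ Set.range W.1.ι := by
      rintro _ ⟨t, rfl⟩
      rw [W.1.range_ι]
      exact t.2
    rw [← Category.assoc, ← IsOpenImmersion.lift_fac W.1.ι ((V W).ι ≫ (smoothOpen G).ι) hr, Category.assoc]
    haveI := W.2
    infer_instance

/-- the largest smooth open is stable under division -/
theorem range_div_subset (G : Over S) [GrpObj G] :
    Set.range ((fst (Over.mk ((smoothOpen G).ι ≫ G.hom)) (Over.mk ((smoothOpen G).ι ≫ G.hom)) ≫ openSub G (smoothOpen G))⁻¹ *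
      (snd (Over.mk ((smoothOpen G).ι ≫ G.hom)) (Over.mk ((smoothOpen G).ι ≫ G.hom)) ≫ openSub G (smoothOpen G))).left.base ⊆
      (smoothOpen G : Set G.left) := by
  let M : Over S := Over.mk ((smoothOpen G).ι ≫ G.hom)
  let iM : M ⟶ G := openSub G (smoothOpen G)
  show Set.range ((fst M M ≫ iM)⁻¹ * (snd M M ≫ iM)).left.base ⊆ _
  haveI : Smooth M.hom := smooth_smoothOpen G
  haveI : IsOpenImmersion iM.left := inferInstanceAs (IsOpenImmersion (smoothOpen G).ι)
  let σ : M ⊗ G ≅ M ⊗ G :=
    { hom := lift (fst M G) ((fst M G ≫ iM)⁻¹ * snd M G)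
      inv := lift (fst M G) ((fst M G ≫ iM) * snd M G)
      hom_inv_id := by ext <;> simp [MonObj.comp_mul, GrpObj.comp_inv]
      inv_hom_id := by ext <;> simp [MonObj.comp_mul, GrpObj.comp_inv] }
  let m : M ⊗ M ⟶ G := (fst M M ≫ iM)⁻¹ * (snd M M ≫ iM)
  have hm : (M ◁ iM) ≫ σ.hom ≫ snd M G = m := by
    simp [σ, m, MonObj.comp_mul, GrpObj.comp_inv]
  haveI : Smooth (M ⊗ M).hom := by
    show Smooth (pullback.fst M.hom M.hom ≫ M.hom)
    infer_instance
  haveI : IsIso σ.hom.left := ((Over.forget _).mapIso σ).isIso_hom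
  haveI : IsOpenImmersion (M ◁ iM).left := by
    have sq : IsPullback (M ◁ iM).left (snd M M).left (snd M G).left iM.left :=
      (Groth.Agent.Assoc.isPullback_whiskerLeft (Z := M) iM).flip
    exact MorphismProperty.of_isPullback sq.flip ‹IsOpenImmersion iM.left›
  haveI : Smooth (snd M G).left := inferInstanceAs (Smooth (pullback.snd M.hom G.hom))
  haveI : Smooth m.left := by
    rw [← hm, Over.comp_left, Over.comp_left]
    infer_instance
  let R : G.left.Opens := ⟨Set.range m.left, m.left.isOpenMap.isOpen_range⟩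
  haveI : Surjective (m.left ∣_ R) := ⟨fun r => by
    obtain ⟨q, hq⟩ := r.2
    refine ⟨⟨q, show m.left q ∈ R from hq ▸ r.2⟩, Subtype.ext ?_⟩
    exact (congrArg (fun k : (m.left ⁻¹ᵁ R).toScheme ⟶ G.left => k ⟨q, show m.left q ∈ R from hq ▸ r.2⟩)
      (morphismRestrict_ι m.left R)).trans hq⟩
  haveI : Smooth ((m.left ∣_ R) ≫ R.ι ≫ G.hom) := by
    rw [← Category.assoc, morphismRestrict_ι, Category.assoc, Over.w m]
    infer_instance
  have hR : Smooth (R.ι ≫ G.hom) := FppfSource.smooth (m.left ∣_ R) (R.ι ≫ G.hom)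
  exact fun x hx => TopologicalSpace.Opens.mem_iSup.2 ⟨⟨R, hR⟩, hx⟩

/-- **openness of the neutral component of a group scheme smooth along its unit section** -/
theorem exists_open_smooth (G : Over S) [GrpObj G]
    (hsm : ∃ U : G.left.Opens, Smooth (U.ι ≫ G.hom) ∧ ∀ p : ↥(𝟙_ (Over S)).left, η[G].left.base p ∈ U) :
    IsOpen (SGA3x.neutralSet G) ∧
    ∃ (G0 : Over S) (_ : GrpObj G0) (i : G0 ⟶ G), IsMonHom i ∧ IsOpenImmersion i.left ∧
      Set.range i.left.base = SGA3x.neutralSet G ∧ Smooth G0.hom ∧ QuasiCompact G0.hom := by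
  obtain ⟨U, hUs, hU⟩ := hsm
  let M : Over S := Over.mk ((smoothOpen G).ι ≫ G.hom)
  haveI : Smooth M.hom := smooth_smoothOpen G
  obtain ⟨instM, hiM⟩ := exists_grpObj_openSub G (smoothOpen G)
    (fun p => TopologicalSpace.Opens.mem_iSup.2 ⟨⟨U, hUs⟩, hU p⟩) (range_div_subset G)
  let iM : M ⟶ G := openSub G (smoothOpen G)
  haveI : IsMonHom iM := hiM
  haveI : IsOpenImmersion iM.left := inferInstanceAs (IsOpenImmersion (smoothOpen G).ι)
  obtain ⟨hopen, G0, inst0, i, hi, hoi, hrange, hsm0, hqc⟩ := exists_neutralComponent M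
  obtain ⟨-, himg⟩ := S5327.result S G M (lft_fibre G U hU) iM
  refine ⟨himg ▸ iM.left.isOpenEmbedding.isOpenMap _ hopen, G0, inst0, i ≫ iM, inferInstance, ?_, ?_, hsm0, hqc⟩
  · rw [Over.comp_left]; infer_instance
  · rw [← himg, ← hrange, Over.comp_left, Scheme.Hom.comp_base, TopCat.coe_comp, Set.range_comp]

end Groth.Agent.SmNeutral
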